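import Groth.Agent.WeakAssLib.Stalk
import Groth.Agent.WeakAssLib.Basic
import Mathlib.Algebra.Category.ModuleCat.Sheaf.ChangeOfRings
import Mathlib.RingTheory.LocalRing.Module
import Mathlib.LinearAlgebra.Finsupp.VectorSpace
import Mathlib.LinearAlgebra.DFinsupp

/-!
# Stalks of modules over a sheaf of algebras
-/

set_option autoImplicit false
set_option backward.isDefEq.respectTransparency false
set_option backward.isDefEq.respectTransparency.types false
set_option linter.style.haveILetI false
set_option linter.unusedSectionVars false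

universe u

open CategoryTheory CategoryTheory.Limits AlgebraicGeometry TopologicalSpace Opposite
open Groth.Agent.WeakAssLib

noncomputable section

namespace Groth.Agent.OrdSurfB

variable {X : Scheme.{u}} (A : Sheaf (Opens.grothendieckTopology X) RingCat.{u}) (φ : X.ringCatSheaf ⟶ A)

/-- The stalk of the sheaf of algebras. -/
abbrev AStalk (x : X) : RingCat.{u} := TopCat.Presheaf.stalk (C := RingCat.{u}) (X := X.carrier) A.obj x

/-- The underlying O_X-module. -/
abbrev Res (M : SheafOfModules.{u} A) : X.Modules := (SheafOfModules.restrictScalars φ).obj M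

/-- The module structure of a stalk over the stalk of the algebra. -/
instance moduleRes (M : SheafOfModules.{u} A) (x : X) : Module (AStalk A x) ((Res A φ M).presheaf.stalk x) :=
  inferInstanceAs (Module (AStalk A x) ↑(TopCat.Presheaf.stalk (C := Ab.{u}) (X := X.carrier) M.val.presheaf x))

theorem mgerm_alg (M : SheafOfModules.{u} A) {U : X.Opens} {x : X} (hx : x ∈ U) (a : A.obj.obj (op U))
    (m : M.val.obj (op U)) :
    mgerm (Res A φ M) hx (show Γ(Res A φ M, U) from a • m) =
      (TopCat.Presheaf.germ (X := X.carrier) A.obj U x hx a : AStalk A x) •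
        mgerm (Res A φ M) hx (show Γ(Res A φ M, U) from m) :=
  PresheafOfModules.germ_ringCat_smul (X := X.carrier) (R := A.obj) M.val x U hx a m

/-- Multiplying by a function is multiplying by its image in the algebra. -/
theorem smul_eq_alg (M : SheafOfModules.{u} A) {W : X.Opens} {x : X} (hx : x ∈ W) (r : Γ(X, W))
    (z : (Res A φ M).presheaf.stalk x) :
    (X.presheaf.germ W x hx).hom r • z =
      (TopCat.Presheaf.germ (X := X.carrier) A.obj W x hx (φ.hom.app (op W) r) : AStalk A x) • z := by
  obtain ⟨V, hV, t, rfl⟩ := (Res A φ M).presheaf.exists_germ_eq (x := x) z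
  have hU : x ∈ W ⊓ V := ⟨hx, hV⟩
  have e1 : (X.presheaf.germ W x hx).hom r =
      (X.presheaf.germ (W ⊓ V) x hU).hom (X.presheaf.map (homOfLE (inf_le_left : W ⊓ V ≤ W)).op r) :=
    (TopCat.Presheaf.germ_res_apply X.presheaf _ x hU r).symm
  have e2 : (TopCat.Presheaf.germ (X := X.carrier) A.obj W x hx (φ.hom.app (op W) r) : AStalk A x) =
      TopCat.Presheaf.germ (X := X.carrier) A.obj (W ⊓ V) x hU
        (φ.hom.app (op (W ⊓ V)) (X.presheaf.map (homOfLE (inf_le_left : W ⊓ V ≤ W)).op r)) := by
    rw [← TopCat.Presheaf.germ_res_apply (X := X.carrier) A.obj (homOfLE (inf_le_left : W ⊓ V ≤ W)) x hU]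
    exact congrArg _ (ConcreteCategory.congr_hom (φ.hom.naturality (homOfLE (inf_le_left : W ⊓ V ≤ W)).op) r).symm
  change _ • mgerm (Res A φ M) hV t = _ • mgerm (Res A φ M) hV t
  rw [← mgerm_res (Res A φ M) (inf_le_right : W ⊓ V ≤ V) hU t, e1, e2, ← mgerm_smul]
  exact mgerm_alg A φ M hU _ _

/-- Maps of stalks linear over the algebra are linear over the local ring. -/
theorem linear_of_alg (M N : SheafOfModules.{u} A) (x : X)
    (f : (Res A φ M).presheaf.stalk x → (Res A φ N).presheaf.stalk x)
    (hf : ∀ (a : AStalk A x) z, f (a • z) = a • f z) (r : X.presheaf.stalk x)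
    (z : (Res A φ M).presheaf.stalk x) : f (r • z) = r • f z := by
  obtain ⟨W, hW, r0, rfl⟩ := X.presheaf.exists_germ_eq (x := x) r
  rw [smul_eq_alg A φ M hW, smul_eq_alg A φ N hW, hf]

/-- The stalk of a morphism is linear over the stalk of the algebra. -/
theorem stalkHom_alg {M N : SheafOfModules.{u} A} (ψ : M ⟶ N) (x : X) (a : AStalk A x)
    (z : (Res A φ M).presheaf.stalk x) :
    stalkHom (show Res A φ M ⟶ Res A φ N from (SheafOfModules.restrictScalars φ).map ψ) x (a • z) =
      a • stalkHom (show Res A φ M ⟶ Res A φ N from (SheafOfModules.restrictScalars φ).map ψ) x z := by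
  obtain ⟨U, hU, a0, rfl⟩ := TopCat.Presheaf.exists_germ_eq (X := X.carrier) (x := x) A.obj a
  obtain ⟨V, hV, t, rfl⟩ := (Res A φ M).presheaf.exists_germ_eq (x := x) z
  have hW : x ∈ U ⊓ V := ⟨hU, hV⟩
  change stalkHom _ x (_ • mgerm (Res A φ M) hV t) = _ • stalkHom _ x (mgerm (Res A φ M) hV t)
  rw [← mgerm_res (Res A φ M) (inf_le_right : U ⊓ V ≤ V) hW t,
    ← TopCat.Presheaf.germ_res_apply (X := X.carrier) A.obj (homOfLE (inf_le_left : U ⊓ V ≤ U)) x hW a0,
    ← mgerm_alg A φ M hW, stalkHom_germ, stalkHom_germ, ← mgerm_alg A φ N hW]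
  exact congrArg _ ((ψ.val.app (op (U ⊓ V))).hom.map_smul _ _)

/-- The stalk of the unit module is free of rank one over the stalk of the algebra. -/
theorem unit_equiv (x : X) :
    Nonempty (AStalk A x ≃ₗ[AStalk A x] (Res A φ (SheafOfModules.unit A)).presheaf.stalk x) := by
  let one : (Res A φ (SheafOfModules.unit A)).presheaf.stalk x :=
    mgerm (Res A φ (SheafOfModules.unit A)) (U := ⊤) (trivial : x ∈ (⊤ : X.Opens))
      (show A.obj.obj (op (⊤ : X.Opens)) from 1)
  have key : ∀ {U : X.Opens} (hU : x ∈ U) (a : A.obj.obj (op U)),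
      (TopCat.Presheaf.germ (X := X.carrier) A.obj U x hU a : AStalk A x) • one =
        mgerm (Res A φ (SheafOfModules.unit A)) hU (show Γ(Res A φ (SheafOfModules.unit A), U) from a) := by
    intro U hU a
    show _ • mgerm _ _ _ = _
    rw [← mgerm_res (Res A φ (SheafOfModules.unit A)) (le_top : U ≤ ⊤) hU]
    refine (mgerm_alg A φ _ hU a _).symm.trans (congrArg _ ?_)
    show (a : A.obj.obj (op U)) * A.obj.map (homOfLE le_top).op 1 = a
    rw [map_one, mul_one]
  refine ⟨LinearEquiv.ofBijective (LinearMap.toSpanSingleton _ _ one)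
    ⟨(injective_iff_map_eq_zero (LinearMap.toSpanSingleton _ _ one)).2 fun a ha => ?_, fun z => ?_⟩⟩
  · obtain ⟨U, hU, a0, rfl⟩ := TopCat.Presheaf.exists_germ_eq (X := X.carrier) (x := x) A.obj a
    rw [LinearMap.toSpanSingleton_apply, key hU] at ha
    obtain ⟨D, hxD, i, i', hD⟩ := TopCat.Presheaf.germ_eq (Res A φ (SheafOfModules.unit A)).presheaf x hU hU
      _ 0 (ha.trans (map_zero _).symm)
    rw [← TopCat.Presheaf.germ_res_apply (X := X.carrier) A.obj i x hxD a0,
      show A.obj.map i.op a0 = 0 from hD.trans (map_zero _)]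
    exact map_zero _
  · obtain ⟨U, hU, t, rfl⟩ := (Res A φ (SheafOfModules.unit A)).presheaf.exists_germ_eq (x := x) z
    exact ⟨_, key hU t⟩

/-- A stalk projective over the algebra is projective over the local ring if the algebra is. -/
theorem projective_res (M : SheafOfModules.{u} A) (x : X)
    [Module.Projective (X.presheaf.stalk x) ((Res A φ (SheafOfModules.unit A)).presheaf.stalk x)]
    [Module.Projective (AStalk A x) ((Res A φ M).presheaf.stalk x)] :
    Module.Projective (X.presheaf.stalk x) ((Res A φ M).presheaf.stalk x) := by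
  classical
  obtain ⟨e⟩ := unit_equiv A φ x
  obtain ⟨s, hs⟩ := (Module.projective_def'.1
    (inferInstance : Module.Projective (AStalk A x) ((Res A φ M).presheaf.stalk x)))
  let ι := (Res A φ M).presheaf.stalk x
  let P := (Finsupp.linearCombination (AStalk A x) (id : ι → ι)).comp
    (Finsupp.mapRange.linearEquiv e.symm).toLinearMap
  let S := (Finsupp.mapRange.linearEquiv e).toLinearMap.comp s
  have hsmul : ∀ (r : X.presheaf.stalk x) (v : ι →₀ (Res A φ (SheafOfModules.unit A)).presheaf.stalk x),
      ∀ {W : X.Opens} (hW : x ∈ W) (r0 : Γ(X, W)), (X.presheaf.germ W x hW).hom r0 = r →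
        r • v = (TopCat.Presheaf.germ (X := X.carrier) A.obj W x hW (φ.hom.app (op W) r0) : AStalk A x) • v := by
    intro r v W hW r0 hr
    ext i
    rw [Finsupp.smul_apply, Finsupp.smul_apply, ← hr, smul_eq_alg A φ _ hW]
  let P' : (ι →₀ (Res A φ (SheafOfModules.unit A)).presheaf.stalk x) →ₗ[X.presheaf.stalk x] ι :=
    { toFun := P
      map_add' := P.map_add
      map_smul' := fun r v => by
        obtain ⟨W, hW, r0, hr⟩ := X.presheaf.exists_germ_eq (x := x) r
        rw [RingHom.id_apply, hsmul r v hW r0 hr, P.map_smul, ← hr, smul_eq_alg A φ M hW] }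
  let S' : ι →ₗ[X.presheaf.stalk x] (ι →₀ (Res A φ (SheafOfModules.unit A)).presheaf.stalk x) :=
    { toFun := S
      map_add' := S.map_add
      map_smul' := fun r v => by
        obtain ⟨W, hW, r0, hr⟩ := X.presheaf.exists_germ_eq (x := x) r
        rw [RingHom.id_apply, hsmul r (S v) hW r0 hr, ← hr, smul_eq_alg A φ M hW, S.map_smul] }
  haveI : Module.Projective (X.presheaf.stalk x) (ι →₀ (Res A φ (SheafOfModules.unit A)).presheaf.stalk x) :=
    Module.Projective.of_equiv (finsuppLequivDFinsupp (X.presheaf.stalk x)).symm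
  refine Module.Projective.of_split S' P' (LinearMap.ext fun v => ?_)
  show P (S v) = v
  show Finsupp.linearCombination (AStalk A x) (id : ι → ι)
    ((Finsupp.mapRange.linearEquiv e).symm ((Finsupp.mapRange.linearEquiv e) (s v))) = v
  rw [LinearEquiv.symm_apply_apply]
  exact LinearMap.congr_fun hs v

end Groth.Agent.OrdSurfB
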