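import Groth.Prelude.Def_TorSh
import Groth.Agent.SurfAdj.Basic
import Groth.Agent.RegDual.Scheme
import Groth.Agent.WeakAssLib.Stalk

/-!
# Coherent modules on smooth projective surfaces: stalkwise criteria
-/

set_option autoImplicit false
set_option backward.isDefEq.respectTransparency false
set_option linter.style.haveILetI false
set_option linter.unusedSectionVars false

universe u

open CategoryTheory CategoryTheory.Limits AlgebraicGeometry TopologicalSpace Opposite
open Groth.Agent.QC Groth.Agent.WeakAssLib

noncomputable section

namespace Groth.Agent.OrdSurfB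

/-- A smooth projective surface is noetherian with regular local rings. -/
theorem surf_facts (k : Type u) [Field k] [IsAlgClosed k] (X : Scheme.{u}) [X.Over (Spec (CommRingCat.of k))]
    [IsIntegral X] [Smooth (X ↘ Spec (CommRingCat.of k))] (hdim : topologicalKrullDim X = 2)
    (hproj : ∃ (n : ℕ) (ι : X ⟶ CohB1.ProjSpace n k), IsClosedImmersion ι ∧
      ι ≫ CohB1.ProjSpace.toSpec n k = X ↘ Spec (CommRingCat.of k)) :
    IsLocallyNoetherian X ∧ ∀ x : X, IsRegularLocalRing (X.presheaf.stalk x) := by
  obtain ⟨n, ι, hi, hι⟩ := hproj
  haveI := hi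
  haveI := ExtFund.isProper_of_closed ι hι
  exact ⟨(CurveRR.isNoetherian_of_proper k X).toIsLocallyNoetherian, SurfAdj.regular k hdim⟩

variable {X : Scheme.{u}}

/-- The stalk map as a linear map. -/
def stalkLin {M N : X.Modules} (φ : M ⟶ N) (x : X) :
    M.presheaf.stalk x →ₗ[X.presheaf.stalk x] N.presheaf.stalk x :=
  { stalkHom φ x with map_smul' := fun r m => stalkHom_smul φ x r m }

/-- The cokernel of a monomorphism has zero stalk only where the map is bijective. -/
theorem bijective_of_subsingleton_coker {M N : X.Modules} (φ : M ⟶ N) [Mono φ] (x : X)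
    (h : Subsingleton ((cokernel φ).presheaf.stalk x)) : Function.Bijective (stalkHom φ x) :=
  ⟨stalkHom_injective φ x, fun m => stalk_exact (ShortComplex.mk φ (cokernel.π φ) (cokernel.condition φ))
    { exact := ShortComplex.exact_of_g_is_cokernel _ (cokernelIsCokernel φ) } x m (Subsingleton.elim _ _)⟩

end Groth.Agent.OrdSurfB
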