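import Groth.Agent.OrdSurfB.Basic
import Groth.Agent.OrdSurfB.AlgStalk
import Groth.Agent.StabLib.Simple
import Groth.Agent.PnEuler.RankTwoEnd

/-!
# Endomorphisms of modules with simple generic stalk
-/

set_option autoImplicit false
set_option backward.isDefEq.respectTransparency false
set_option backward.isDefEq.respectTransparency.types false
set_option linter.style.haveILetI false
set_option linter.unusedSectionVars false

universe u

open CategoryTheory CategoryTheory.Limits AlgebraicGeometry TopologicalSpace Opposite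
open Groth.Agent.WeakAssLib Groth.Agent.StabLib StabCat

noncomputable section

namespace Groth.Agent.OrdSurfB

variable {X : Scheme.{u}}

/-- On a projective scheme a mono endomorphism of a coherent module is an isomorphism. -/
theorem isIso_of_mono_endo (k : Type u) [Field k] [IsAlgClosed k] [X.Over (Spec (CommRingCat.of k))]
    [IsProper (X ↘ Spec (CommRingCat.of k))] {L : X.Modules} (hL : CohB1.IsAmple L) {F : X.Modules}
    (hF : Coh.IsCoh F) (f : F ⟶ F) [Mono f] : IsIso f := by
  haveI := CurveRR.isNoetherian_of_proper k X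
  have hF' : Inv.ok (StabLib.Sh.inv k hL) F := hF
  have e' := Inv.hp_cokernel (StabLib.Sh.inv k hL) f hF' hF'
  rw [left_eq_add] at e'
  have hz := (Inv.hp_eq_zero_iff (StabLib.Sh.inv k hL) (Inv.ok_cokernel (StabLib.Sh.inv k hL) f hF' hF')).1 e'
  haveI : Epi f := Abelian.epi_of_cokernel_π_eq_zero _ (hz.eq_of_tgt _ _)
  exact isIso_of_mono_of_epi f

/-- A nonzero map of torsion-free quasi-coherent modules that is injective or zero at the generic point is mono. -/
theorem mono_of_generic [IsIntegral X] {F G : X.Modules} [Coh.IsQCoh F] [Coh.IsQCoh G]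
    (hFt : TorSh.IsTorsionFree F) (hGt : TorSh.IsTorsionFree G) (f : F ⟶ G) (hf : f ≠ 0)
    (h : Function.Injective (stalkHom f (genericPoint X)) ∨ ∀ z, stalkHom f (genericPoint X) z = 0) : Mono f := by
  rcases h with h | h
  · refine (Groth.Agent.QC.mono_iff_app_injective f).2 fun V => (injective_iff_map_eq_zero (f.app V).hom).2 fun a ha => ?_
    by_cases hV : genericPoint X ∈ V
    · refine RatFun.germ_generic_injective F hFt hV ((injective_iff_map_eq_zero _).1 h _ ?_)
      show stalkHom f _ (mgerm F hV a) = 0
      rw [stalkHom_germ, show f.app V a = 0 from ha, map_zero]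
    · refine Groth.Agent.QC.section_eq_of_locally fun y hy => ?_
      exact absurd ((genericPoint_specializes y).mem_open V.2 hy) hV
  · refine absurd (Scheme.Modules.hom_ext _ _ fun V => ?_) hf
    ext t
    show f.app V t = 0
    by_cases hV : genericPoint X ∈ V
    · refine RatFun.germ_generic_injective G hGt hV ?_
      rw [← stalkHom_germ]
      exact h _
    · refine Groth.Agent.QC.section_eq_of_locally fun y hy => ?_
      exact absurd ((genericPoint_specializes y).mem_open V.2 hy) hV

variable (A : Sheaf (Opens.grothendieckTopology X) RingCat.{u}) (φ : X.ringCatSheaf ⟶ A)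

/-- Global functions act on stalks commuting with the algebra. -/
theorem smul_comm_alg
    (hcen : ∀ (U : (Opens X)ᵒᵖ) (s : X.ringCatSheaf.obj.obj U) (a : A.obj.obj U),
      φ.hom.app U s * a = a * φ.hom.app U s)
    (M : SheafOfModules.{u} A) (x : X) (r : X.presheaf.stalk x) (a : AStalk A x)
    (z : (Res A φ M).presheaf.stalk x) : r • a • z = a • r • z := by
  obtain ⟨W, hW, r0, rfl⟩ := X.presheaf.exists_germ_eq (x := x) r
  obtain ⟨U, hU, a0, rfl⟩ := TopCat.Presheaf.exists_germ_eq (X := X.carrier) (x := x) A.obj a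
  rw [smul_eq_alg A φ M hW, smul_eq_alg A φ M hW, smul_smul, smul_smul]
  congr 1
  have hD : x ∈ W ⊓ U := ⟨hW, hU⟩
  rw [← TopCat.Presheaf.germ_res_apply (X := X.carrier) A.obj (homOfLE (inf_le_left : W ⊓ U ≤ W)) x hD,
    ← TopCat.Presheaf.germ_res_apply (X := X.carrier) A.obj (homOfLE (inf_le_right : W ⊓ U ≤ U)) x hD a0,
    ← map_mul, ← map_mul]
  refine congrArg _ ?_
  rw [show A.obj.map (homOfLE (inf_le_left : W ⊓ U ≤ W)).op (φ.hom.app (op W) r0) =
      φ.hom.app (op (W ⊓ U)) (X.ringCatSheaf.obj.map (homOfLE (inf_le_left : W ⊓ U ≤ W)).op r0) from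
    (ConcreteCategory.congr_hom (φ.hom.naturality (homOfLE (inf_le_left : W ⊓ U ≤ W)).op) r0).symm]
  exact hcen _ _ _

end Groth.Agent.OrdSurfB
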